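import Groth.Agent.Lib.CohFound.Godement
import Groth.Agent.Lib.CohFound.Colim

/-! Direct image along an embedding, stalks and essential image. -/

universe u

open CategoryTheory TopologicalSpace Opposite CategoryTheory.Limits

set_option backward.isDefEq.respectTransparency false
set_option backward.isDefEq.respectTransparency.types false
set_option linter.style.haveILetI false

namespace Groth.Agent.CohFound16

open Groth.Agent.CohFound

variable {Z X : TopCat.{u}} (i : Z ⟶ X)

theorem stalkPushforward_natural {P Q : TopCat.Presheaf AddCommGrpCat.{u} Z} (β : P ⟶ Q) (z : Z) :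
    (TopCat.Presheaf.stalkFunctor AddCommGrpCat.{u} (i z)).map ((TopCat.Presheaf.pushforward AddCommGrpCat.{u} i).map β) ≫
      TopCat.Presheaf.stalkPushforward AddCommGrpCat.{u} i Q z =
    TopCat.Presheaf.stalkPushforward AddCommGrpCat.{u} i P z ≫
      (TopCat.Presheaf.stalkFunctor AddCommGrpCat.{u} z).map β := by
  refine TopCat.Presheaf.stalk_hom_ext _ fun U hU => ?_
  erw [TopCat.Presheaf.stalkFunctor_map_germ_assoc, TopCat.Presheaf.stalkPushforward_germ,
    TopCat.Presheaf.stalkPushforward_germ_assoc, TopCat.Presheaf.stalkFunctor_map_germ]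
  rfl

theorem stalkUnit_comp_counit (G : CohTop.Ab Z) (z : Z) :
    stalkUnit i ((CohTop.push i).obj G) z ≫ (TopCat.Presheaf.stalkFunctor AddCommGrpCat.{u} z).map
        ((TopCat.Sheaf.pullbackPushforwardAdjunction AddCommGrpCat.{u} i).counit.app G).hom =
      TopCat.Presheaf.stalkPushforward AddCommGrpCat.{u} i G.obj z := by
  rw [stalkUnit, Category.assoc]
  erw [← stalkPushforward_natural i ((TopCat.Sheaf.pullbackPushforwardAdjunction AddCommGrpCat.{u} i).counit.app G).hom z]
  rw [← Category.assoc, ← Functor.map_comp]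
  have := congrArg InducedCategory.Hom.hom
    ((TopCat.Sheaf.pullbackPushforwardAdjunction AddCommGrpCat.{u} i).right_triangle_components G)
  refine (congrArg (fun m => (TopCat.Presheaf.stalkFunctor AddCommGrpCat.{u} (i z)).map m ≫
    TopCat.Presheaf.stalkPushforward AddCommGrpCat.{u} i G.obj z) this).trans ?_
  erw [CategoryTheory.Functor.map_id]
  exact Category.id_comp _

theorem isIso_counit (hi : Topology.IsInducing i) :
    IsIso (TopCat.Sheaf.pullbackPushforwardAdjunction AddCommGrpCat.{u} i).counit := by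
  have : ∀ G : CohTop.Ab Z, IsIso ((TopCat.Sheaf.pullbackPushforwardAdjunction AddCommGrpCat.{u} i).counit.app G) := by
    intro G
    have : ∀ z : Z, IsIso ((TopCat.Presheaf.stalkFunctor AddCommGrpCat.{u} z).map
        ((TopCat.Sheaf.pullbackPushforwardAdjunction AddCommGrpCat.{u} i).counit.app G).hom) := by
      intro z
      haveI := isIso_stalkUnit i ((CohTop.push i).obj G) z
      haveI := TopCat.Presheaf.stalkPushforward.stalkPushforward_iso_of_isInducing AddCommGrpCat.{u} hi G.obj z
      exact IsIso.of_isIso_fac_left (stalkUnit_comp_counit i G z)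
    exact TopCat.Presheaf.isIso_of_stalkFunctor_map_iso _
  exact NatIso.isIso_of_isIso_app _

theorem isZero_stalk_push (hi : IsClosed (Set.range i)) (G : CohTop.Ab Z) (x : X) (hx : x ∉ Set.range i) :
    IsZero (CohTop.stalk ((CohTop.push i).obj G) x) := by
  refine (AddCommGrpCat.isZero_iff_subsingleton ..).2 ?_
  refine subsingleton_of_forall_eq 0 fun s => ?_
  obtain ⟨V, hxV, t, rfl⟩ := TopCat.Presheaf.germ_exist (F := ((CohTop.push i).obj G).obj) s
  let W : Opens X := V ⊓ ⟨(Set.range i)ᶜ, hi.isOpen_compl⟩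
  have hW : (Opens.map i).obj W = ⊥ := eq_bot_iff.2 fun z hz => absurd (Set.mem_range_self z) hz.2
  haveI : Subsingleton (G.obj.obj (op ((Opens.map i).obj W))) := by
    rw [hW]
    exact AddCommGrpCat.subsingleton_of_isZero (TopCat.Sheaf.isTerminalOfEmpty G).isZero
  rw [← TopCat.Presheaf.germ_res_apply (((CohTop.push i).obj G).obj) (homOfLE (inf_le_left : W ≤ V)) x ⟨hxV, hx⟩]
  exact (congrArg _ (Subsingleton.elim (α := G.obj.obj (op ((Opens.map i).obj W))) _ _)).trans (map_zero _)

theorem isIso_unit (hi : Topology.IsClosedEmbedding i) (F : CohTop.Ab X)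
    (hF : ∀ x : X, x ∉ Set.range i → IsZero (CohTop.stalk F x)) :
    IsIso ((TopCat.Sheaf.pullbackPushforwardAdjunction AddCommGrpCat.{u} i).unit.app F) := by
  have : ∀ x : X, IsIso ((TopCat.Presheaf.stalkFunctor AddCommGrpCat.{u} x).map
      ((TopCat.Sheaf.pullbackPushforwardAdjunction AddCommGrpCat.{u} i).unit.app F).hom) := by
    intro x
    by_cases hx : x ∈ Set.range i
    · obtain ⟨z, rfl⟩ := hx
      haveI := isIso_stalkUnit i F z
      haveI := TopCat.Presheaf.stalkPushforward.stalkPushforward_iso_of_isInducing AddCommGrpCat.{u} hi.isInducing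
        ((CohTop.pull i).obj F).obj z
      exact IsIso.of_isIso_fac_right (show _ ≫ TopCat.Presheaf.stalkPushforward AddCommGrpCat.{u} i
        ((CohTop.pull i).obj F).obj z = stalkUnit i F z from rfl)
    · exact ⟨0, (hF x hx).eq_of_src _ _,
        (isZero_stalk_push i hi.isClosed_range ((CohTop.pull i).obj F) x hx).eq_of_src _ _⟩
  exact TopCat.Presheaf.isIso_of_stalkFunctor_map_iso _

theorem push_preservesEpimorphisms (hi : Topology.IsClosedEmbedding i) :
    (CohTop.push i).PreservesEpimorphisms := by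
  refine ⟨fun {F G} φ hφ => ?_⟩
  rw [← TopCat.Sheaf.isLocallySurjective_iff_epi, TopCat.Presheaf.isLocallySurjective_iff]
  have hl : TopCat.Presheaf.IsLocallySurjective φ.hom := (TopCat.Sheaf.isLocallySurjective_iff_epi φ).2 hφ
  rw [TopCat.Presheaf.isLocallySurjective_iff] at hl
  intro V s x hx
  by_cases hxi : x ∈ Set.range i
  · obtain ⟨z, rfl⟩ := hxi
    obtain ⟨W, hW, ⟨t, ht⟩, hzW⟩ := hl ((Opens.map i).obj V) s z hx
    obtain ⟨O, hO, hOW⟩ := hi.isInducing.isOpen_iff.1 W.isOpen
    let V' : Opens X := V ⊓ ⟨O, hO⟩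
    have hle : (Opens.map i).obj V' ≤ W := fun w hw => by
      have : w ∈ i ⁻¹' O := hw.2
      rw [hOW] at this
      exact this
    refine ⟨V', inf_le_left, ⟨F.obj.map (homOfLE hle).op t, ?_⟩, ⟨hx, ?_⟩⟩
    · change φ.hom.app (op ((Opens.map i).obj V')) (F.obj.map (homOfLE hle).op t) = _
      rw [NatTrans.naturality_apply φ.hom (homOfLE hle).op t, ht]
      exact (ConcreteCategory.congr_hom (G.obj.map_comp (homOfLE hW).op (homOfLE hle).op) s).symm
    · have : z ∈ i ⁻¹' O := hOW.symm ▸ hzW
      exact this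
  · let W : Opens X := V ⊓ ⟨(Set.range i)ᶜ, hi.isClosed_range.isOpen_compl⟩
    have hW : (Opens.map i).obj W = ⊥ := eq_bot_iff.2 fun z hz => absurd (Set.mem_range_self z) hz.2
    haveI : Subsingleton (G.obj.obj (op ((Opens.map i).obj W))) := by
      rw [hW]
      exact AddCommGrpCat.subsingleton_of_isZero (TopCat.Sheaf.isTerminalOfEmpty G).isZero
    refine ⟨W, inf_le_left, ⟨0, ?_⟩, ⟨hx, hxi⟩⟩
    exact Subsingleton.elim (α := G.obj.obj (op ((Opens.map i).obj W))) _ _

end Groth.Agent.CohFound16
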