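import Groth.Agent.Lib.CohFound.RpushHc
import Groth.Agent.Lib.CohFound.Bridge

/-! Derived functors of the inclusion of sheaves into presheaves. -/

universe u

open CategoryTheory TopologicalSpace Opposite CategoryTheory.Limits Abelian

set_option backward.isDefEq.respectTransparency false
set_option backward.isDefEq.respectTransparency.types false
set_option linter.style.haveILetI false

namespace Groth.Agent.CohFound16

open Groth.Agent.CohFound

variable {X : TopCat.{u}} {F : CohTop.Ab X} (R : AugCx F)

/-- Cycles to cohomology, as a map of presheaves. -/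
noncomputable def cyclesToHcPre (n : ℕ) : (R.Z n).obj ⟶ hcPre F n where
  app V := AddCommGrpCat.ofHom (R.toHc V.unop n)
  naturality V W i := by
    ext z
    exact R.toHc_map V.unop (leOfHom i.unop) n z

theorem nonempty_homology_forget_iso (hA : ∀ V, R.AcyclicOn V) (n : ℕ) :
    Nonempty ((((sheafToPresheaf (Opens.grothendieckTopology (X : Type u)) AddCommGrpCat.{u}).mapHomologicalComplex
      (ComplexShape.up ℕ)).obj R.K).homology n ≅ hcPre F n) := by
  let i := sheafToPresheaf (Opens.grothendieckTopology (X : Type u)) AddCommGrpCat.{u}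
  haveI : i.Additive := Functor.additive_of_preserves_binary_products _
  let K := (i.mapHomologicalComplex (ComplexShape.up ℕ)).obj R.K
  let ker := KernelFork.mapIsLimit _ (kernelIsKernel (R.K.d n (n + 1))) i
  let φ := cyclesToHcPre R n
  haveI : Epi φ := by
    haveI : ∀ V, Epi (φ.app V) := fun V =>
      (AddCommGrpCat.epi_iff_surjective _).2 (AugCx.toHc_surjective (hA V.unop) n)
    exact NatTrans.epi_of_epi_app _
  cases n with
  | zero =>
    let S := K.sc' 0 0 1
    haveI : Mono φ := by
      haveI : ∀ V, Mono (φ.app V) := fun V =>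
        (AddCommGrpCat.mono_iff_injective _).2 (R.toHc_zero_bijective (U := V.unop)).1
      exact NatTrans.mono_of_mono_app _
    have w : (0 : i.obj (R.K.X 0) ⟶ i.obj (R.Z 0)) ≫ φ = 0 := zero_comp
    have hex : (ShortComplex.mk _ φ w).Exact := (ShortComplex.exact_iff_mono _ rfl).2 ‹_›
    have ha : (0 : i.obj (R.K.X 0) ⟶ i.obj (R.Z 0)) ≫ i.map (kernel.ι (R.K.d 0 1)) = S.f :=
      zero_comp.trans (K.shape 0 0 (by simp)).symm
    obtain ⟨e⟩ := nonempty_homology_iso_of_exact S _ (KernelFork.map_condition _ _) ker 0 ha φ w hex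
    exact ⟨ShortComplex.homologyMapIso (K.isoSc' 0 0 1 (by simp) (by simp)) ≪≫ e⟩
  | succ m =>
    let a := i.map (R.zSC m).g
    let S := K.sc' m (m + 1) (m + 2)
    have ha : a ≫ i.map (kernel.ι (R.K.d (m + 1) (m + 2))) = S.f :=
      (i.map_comp _ _).symm.trans (congrArg i.map (kernel.lift_ι _ _ _))
    have hk : ∀ (V : Opens X) t, (kernel.ι (R.K.d (m + 1) (m + 2))).hom.app (op V)
        ((R.zSC m).g.hom.app _ t) = (R.K.d m (m + 1)).hom.app (op V) t := fun V t =>
      congrArg (fun ψ : R.K.X m ⟶ R.K.X (m + 1) => ψ.hom.app (op V) t) (kernel.lift_ι _ _ _)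
    have w : a ≫ φ = 0 := by
      ext V t
      exact (AugCx.toHc_succ_eq_zero_iff (hA V.unop) m _).2 ⟨t, (hk V.unop t).symm⟩
    have hex : (ShortComplex.mk a φ w).Exact := by
      suffices h : ∀ V, ((ShortComplex.mk a φ w).map
          ((CategoryTheory.evaluation (Opens X)ᵒᵖ AddCommGrpCat.{u}).obj V)).Exact by
        rw [ShortComplex.exact_iff_isZero_homology]
        exact Functor.isZero _ fun V => (((ShortComplex.exact_iff_isZero_homology _).1 (h V)).of_iso
          ((ShortComplex.mk a φ w).mapHomologyIso ((CategoryTheory.evaluation _ _).obj V)).symm)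
      intro V
      refine (ShortComplex.ab_exact_iff _).2 fun s hs => ?_
      obtain ⟨t, ht⟩ := (AugCx.toHc_succ_eq_zero_iff (hA V.unop) m s).1 hs
      exact ⟨t, injective_app_of_mono (kernel.ι (R.K.d (m + 1) (m + 2))) V.unop ((hk V.unop t).trans ht)⟩
    obtain ⟨e⟩ := nonempty_homology_iso_of_exact S _ (KernelFork.map_condition _ _) ker a ha φ w hex
    exact ⟨ShortComplex.homologyMapIso (K.isoSc' m (m + 1) (m + 2) (by simp) (by simp)) ≪≫ e⟩

end Groth.Agent.CohFound16
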