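import Groth.Agent.Lib.CohFound.DimShift
import Groth.Agent.Lib.CohFound.Flasque

/-! Sections of the limit of a tower of abelian sheaves. -/

universe u

open CategoryTheory TopologicalSpace Opposite CategoryTheory.Limits

set_option backward.isDefEq.respectTransparency false
set_option backward.isDefEq.respectTransparency.types false
set_option linter.style.haveILetI false

namespace Groth.Agent.CohFound16

open Groth.Agent.CohFound

variable {X : TopCat.{u}} (M : ℕᵒᵖ ⥤ CohTop.Ab X)

/-- The transition map on sections. -/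
noncomputable abbrev tr (U : Opens X) (n : ℕ) (s : (M.obj (op (n + 1))).obj.obj (op U)) :
    (M.obj (op n)).obj.obj (op U) :=
  (M.map (homOfLE (Nat.le_succ n)).op).hom.app (op U) s

/-- The functor of sections over `U`, with values in types. -/
abbrev secType (U : Opens X) : CohTop.Ab X ⥤ Type u :=
  sheafToPresheaf _ _ ⋙ (evaluation _ _).obj (op U) ⋙ forget _

theorem exists_section (U : Opens X) (s : ∀ n, (M.obj (op n)).obj.obj (op U))
    (hs : ∀ n, tr M U n (s (n + 1)) = s n) :
    ∃ t : (limit M : CohTop.Ab X).obj.obj (op U), ∀ n, (limit.π M (op n)).hom.app (op U) t = s n := by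
  have key : ∀ (k n : ℕ) (h : n ≤ n + k), (secType U).map (M.map (homOfLE h).op) (s (n + k)) = s n := by
    intro k
    induction k with
    | zero =>
      intro n h
      rw [Subsingleton.elim (homOfLE h) (𝟙 _)]
      erw [M.map_id, CategoryTheory.Functor.map_id]
      rfl
    | succ k ih =>
      intro n h
      rw [Subsingleton.elim (homOfLE h) (homOfLE (Nat.le_add_right n k) ≫ homOfLE (Nat.le_succ (n + k))), op_comp,
        M.map_comp, Functor.map_comp]
      exact (congrArg ((secType U).map _) (hs (n + k))).trans (ih n _)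
  let e := Types.isLimitEquivSections (isLimitOfPreserves (secType U) (limit.isLimit M))
  refine ⟨e.symm ⟨fun n => s n.unop, fun {i j} f => ?_⟩, fun n => ?_⟩
  · obtain ⟨i⟩ := i
    obtain ⟨j⟩ := j
    obtain ⟨k, rfl⟩ := Nat.exists_eq_add_of_le (leOfHom f.unop)
    rw [show f = (homOfLE (Nat.le_add_right j k)).op from Quiver.Hom.unop_inj (Subsingleton.elim _ _)]
    exact key k j _
  · exact Types.isLimitEquivSections_symm_apply (isLimitOfPreserves (secType U) (limit.isLimit M)) _ (op n)

theorem section_ext (U : Opens X) (t t' : (limit M : CohTop.Ab X).obj.obj (op U))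
    (h : ∀ n, (limit.π M (op n)).hom.app (op U) t = (limit.π M (op n)).hom.app (op U) t') : t = t' :=
  (Types.isLimitEquivSections (isLimitOfPreserves (secType U) (limit.isLimit M))).injective
    (Subtype.ext (funext fun n => h n.unop))

theorem compatible_section (U : Opens X) (t : (limit M : CohTop.Ab X).obj.obj (op U)) (n : ℕ) :
    tr M U n ((limit.π M (op (n + 1))).hom.app (op U) t) = (limit.π M (op n)).hom.app (op U) t :=
  (ConcreteCategory.congr_hom ((secType U).map_comp (limit.π M (op (n + 1))) (M.map (homOfLE (Nat.le_succ n)).op)) t).symm.trans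
    (congrArg (fun m => (secType U).map m t) (limit.w M (homOfLE (Nat.le_succ n)).op))

/-- With flasque kernels, epimorphic transition maps are surjective on sections. -/
theorem surjective_tr (n : ℕ) [Epi (M.map (homOfLE (Nat.le_succ n)).op)]
    [TopCat.Sheaf.IsFlasque (kernel (M.map (homOfLE (Nat.le_succ n)).op) : CohTop.Ab X)] (U : Opens X) :
    Function.Surjective (tr M U n) := by
  let S : ShortComplex (CohTop.Ab X) :=
    ShortComplex.mk (kernel.ι (M.map (homOfLE (Nat.le_succ n)).op)) _ (kernel.condition _)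
  have hS : S.ShortExact :=
    { exact := ShortComplex.exact_of_f_is_kernel _ (kernelIsKernel _), mono_f := inferInstanceAs (Mono (kernel.ι _)),
      epi_g := ‹_› }
  haveI : TopCat.Sheaf.IsFlasque S.X₁ := ‹_›
  exact surjective_app_of_flasque hS U

theorem tr_res {U V : Opens X} (h : V ≤ U) (n : ℕ) (s : (M.obj (op (n + 1))).obj.obj (op U)) :
    tr M V n ((M.obj (op (n + 1))).obj.map (homOfLE h).op s) =
      (M.obj (op n)).obj.map (homOfLE h).op (tr M U n s) :=
  NatTrans.naturality_apply (M.map (homOfLE (Nat.le_succ n)).op).hom (homOfLE h).op s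

theorem isFlasque_limit [∀ n : ℕ, TopCat.Sheaf.IsFlasque (M.obj (op n))]
    [∀ n : ℕ, Epi (M.map (homOfLE (Nat.le_succ n)).op)]
    [∀ n : ℕ, TopCat.Sheaf.IsFlasque (kernel (M.map (homOfLE (Nat.le_succ n)).op) : CohTop.Ab X)] :
    TopCat.Sheaf.IsFlasque (limit M : CohTop.Ab X) := by
  refine isFlasque_mk _ fun U V h s => ?_
  let sn := fun n => (limit.π M (op n)).hom.app (op V) s
  have hstep : ∀ (n : ℕ) (t : (M.obj (op n)).obj.obj (op U)), (M.obj (op n)).obj.map (homOfLE h).op t = sn n →
      ∃ t' : (M.obj (op (n + 1))).obj.obj (op U), tr M U n t' = t ∧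
        (M.obj (op (n + 1))).obj.map (homOfLE h).op t' = sn (n + 1) := by
    intro n t ht
    obtain ⟨t', ht'⟩ := surjective_tr M n U t
    let S : ShortComplex (CohTop.Ab X) :=
      ShortComplex.mk (kernel.ι (M.map (homOfLE (Nat.le_succ n)).op)) _ (kernel.condition _)
    haveI : Mono S.f := inferInstanceAs (Mono (kernel.ι _))
    obtain ⟨k, hk⟩ := exact_app (S := S) (ShortComplex.exact_of_f_is_kernel _ (kernelIsKernel _)) (U := V)
      (sn (n + 1) - (M.obj (op (n + 1))).obj.map (homOfLE h).op t') (by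
        rw [map_sub, sub_eq_zero]
        exact (compatible_section M V s n).trans
          (ht.symm.trans ((congrArg _ ht'.symm).trans (tr_res M h n t').symm)))
    haveI : TopCat.Sheaf.IsFlasque S.X₁ :=
      inferInstanceAs (TopCat.Sheaf.IsFlasque (kernel (M.map (homOfLE (Nat.le_succ n)).op) : CohTop.Ab X))
    obtain ⟨k', hk'⟩ := flasque_surjective S.X₁ h k
    refine ⟨t' + S.f.hom.app (op U) k', ?_, ?_⟩
    · have h0 : S.g.hom.app (op U) (S.f.hom.app (op U) k') = 0 :=
        ConcreteCategory.congr_hom (congrArg (fun m => m.hom.app (op U)) S.zero) k'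
      exact ((map_add _ _ _).trans (congrArg₂ (· + ·) ht' h0)).trans (add_zero _)
    · rw [map_add, ← NatTrans.naturality_apply S.f.hom (homOfLE h).op k', hk', hk, add_sub_cancel]
  choose g hg₁ hg₂ using hstep
  obtain ⟨t₀, ht₀⟩ := flasque_surjective (M.obj (op 0)) h (sn 0)
  let rec' : ∀ n, {t : (M.obj (op n)).obj.obj (op U) // (M.obj (op n)).obj.map (homOfLE h).op t = sn n} :=
    fun n => Nat.rec ⟨t₀, ht₀⟩ (fun n p => ⟨g n p.1 p.2, hg₂ n p.1 p.2⟩) n
  obtain ⟨t, ht⟩ := exists_section M U (fun n => (rec' n).1) fun n => hg₁ n _ _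
  refine ⟨t, section_ext M V _ _ fun n => ?_⟩
  rw [NatTrans.naturality_apply (limit.π M (op n)).hom (homOfLE h).op t, ht]
  exact (rec' n).2

theorem epi_limMap (S : ShortComplex (ℕᵒᵖ ⥤ CohTop.Ab X)) (hS : S.ShortExact)
    [∀ n : ℕ, TopCat.Sheaf.IsFlasque (S.X₁.obj (op n))]
    [∀ n : ℕ, Epi (S.X₁.map (homOfLE (Nat.le_succ n)).op)]
    [∀ n : ℕ, TopCat.Sheaf.IsFlasque (kernel (S.X₁.map (homOfLE (Nat.le_succ n)).op) : CohTop.Ab X)] :
    Epi (limMap S.g : (limit S.X₂ : CohTop.Ab X) ⟶ limit S.X₃) := by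
  rw [← TopCat.Sheaf.isLocallySurjective_iff_epi, TopCat.Presheaf.isLocallySurjective_iff]
  intro U s x hx
  refine ⟨U, le_rfl, ?_, hx⟩
  have hn : ∀ n, (S.map ((evaluation _ _).obj (op n))).ShortExact := fun n => hS.map_of_exact _
  let sn := fun n => (limit.π S.X₃ (op n)).hom.app (op U) s
  have hstep : ∀ (n : ℕ) (t : (S.X₂.obj (op n)).obj.obj (op U)), (S.g.app (op n)).hom.app (op U) t = sn n →
      ∃ t' : (S.X₂.obj (op (n + 1))).obj.obj (op U), tr S.X₂ U n t' = t ∧
        (S.g.app (op (n + 1))).hom.app (op U) t' = sn (n + 1) := by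
    intro n t ht
    haveI : TopCat.Sheaf.IsFlasque (S.map ((evaluation _ _).obj (op (n + 1)))).X₁ :=
      inferInstanceAs (TopCat.Sheaf.IsFlasque (S.X₁.obj (op (n + 1))))
    obtain ⟨t', ht'⟩ : ∃ t' : (S.X₂.obj (op (n + 1))).obj.obj (op U),
        (S.g.app (op (n + 1))).hom.app (op U) t' = sn (n + 1) :=
      surjective_app_of_flasque (hn (n + 1)) U (sn (n + 1))
    haveI : Mono (S.map ((evaluation _ _).obj (op n))).f := (hn n).mono_f
    have hnat : (S.g.app (op n)).hom.app (op U) (tr S.X₂ U n t') = sn n :=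
      (ConcreteCategory.congr_hom (congrArg (fun m => m.hom.app (op U))
        (S.g.naturality (homOfLE (Nat.le_succ n)).op)) t').trans
        ((congrArg (tr S.X₃ U n) ht').trans (compatible_section S.X₃ U s n))
    obtain ⟨k, hk⟩ := exact_app (S := S.map ((evaluation _ _).obj (op n))) (hn n).exact (U := U)
      (t - tr S.X₂ U n t') (by
        rw [map_sub, sub_eq_zero]
        exact ht.trans hnat.symm)
    obtain ⟨k', hk'⟩ := surjective_tr S.X₁ n U k
    refine ⟨t' + (S.f.app (op (n + 1))).hom.app (op U) k', ?_, ?_⟩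
    · have h1 : tr S.X₂ U n ((S.f.app (op (n + 1))).hom.app (op U) k') = t - tr S.X₂ U n t' :=
        (ConcreteCategory.congr_hom (congrArg (fun m => m.hom.app (op U))
          (S.f.naturality (homOfLE (Nat.le_succ n)).op)) k').symm.trans ((congrArg _ hk').trans hk)
      exact ((map_add _ _ _).trans (congrArg (tr S.X₂ U n t' + ·) h1)).trans (add_sub_cancel _ _)
    · have h0 : (S.g.app (op (n + 1))).hom.app (op U) ((S.f.app (op (n + 1))).hom.app (op U) k') = 0 :=
        ConcreteCategory.congr_hom (congrArg (fun m => (m.app (op (n + 1))).hom.app (op U)) S.zero) k'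
      exact ((map_add _ _ _).trans (congrArg₂ (· + ·) ht' h0)).trans (add_zero _)
  choose g hg₁ hg₂ using hstep
  haveI : TopCat.Sheaf.IsFlasque (S.map ((evaluation _ _).obj (op 0))).X₁ :=
    inferInstanceAs (TopCat.Sheaf.IsFlasque (S.X₁.obj (op 0)))
  obtain ⟨t₀, ht₀⟩ := surjective_app_of_flasque (hn 0) U (sn 0)
  let rec' : ∀ n, {t : (S.X₂.obj (op n)).obj.obj (op U) // (S.g.app (op n)).hom.app (op U) t = sn n} :=
    fun n => Nat.rec ⟨t₀, ht₀⟩ (fun n p => ⟨g n p.1 p.2, hg₂ n p.1 p.2⟩) n
  obtain ⟨t, ht⟩ := exists_section S.X₂ U (fun n => (rec' n).1) fun n => hg₁ n _ _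
  refine ⟨t, ?_⟩
  change _ = (limit S.X₃ : CohTop.Ab X).obj.map (homOfLE (le_refl U)).op s
  rw [show homOfLE (le_refl U) = 𝟙 U from Subsingleton.elim _ _]
  erw [CategoryTheory.Functor.map_id]
  refine section_ext S.X₃ U _ _ fun n => ?_
  exact (ConcreteCategory.congr_hom (congrArg (fun m => m.hom.app (op U)) (limMap_π S.g (op n))) t).trans
    ((congrArg _ (ht n)).trans (rec' n).2)

end Groth.Agent.CohFound16
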